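import Mathlib
import Cfsg.Agent.FastGrp
import Cfsg.Agent.Prune
set_option linter.all false
prune_inst 0x7f00000000000000000000000000000000000000000000000000000000000000000000000000000000000000000000000000000000000000000000000000000000000000000000000000000000000000003fffffffffffffffffffffffffffbeffbdffffffff
open scoped Cfsg.Agent.FastGrp

/-!
# Abstract lemmas for 2-transitive groups of Lie type, `p ∣ n` (hub H1, helper392)

* `sub_one_dvd_card` : a normal set of fixed point free elements of a 2-transitive group has order divisible by `n - 1`;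
* `card_inf_stab_const`, `relIndex_dvd` : `B` transitive, `Y` normalised by `B`;
* `line` : `E` (of order `q²`) partitioned by conjugates of `X` (of order `q`), which meet `H` in groups of
  constant order `e`: then `e = 1` or `e = q`;
* `pairing`, `heisenberg` : orders of orthogonal subgroups with respect to a commutator pairing.
-/

set_option autoImplicit false

open MulAction
open scoped commutatorElement

namespace Cfsg.Agent.H392.LongRoot

theorem card_inf_mul_relIndex {G : Type*} [Group G] (Y H : Subgroup G) :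
    Nat.card (Y ⊓ H : Subgroup G) * H.relIndex Y = Nat.card Y := by
  have h := Subgroup.relIndex_mul_relIndex (⊥ : Subgroup G) (Y ⊓ H) Y bot_le inf_le_left
  rwa [Subgroup.relIndex_bot_left, Subgroup.relIndex_bot_left, Subgroup.inf_relIndex_left] at h

section trans

variable {G Ω : Type*} [Group G] [MulAction G Ω]

/-- A 2-transitive group: the stabiliser of `a` is transitive on the rest. -/
theorem exists_stab_map (h2 : IsMultiplyPretransitive G Ω 2) {a b c : Ω} (hb : b ≠ a) (hc : c ≠ a) :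
    ∃ g : G, g • a = a ∧ g • b = c := by
  rw [is_two_pretransitive_iff] at h2
  exact h2 hb.symm hc.symm

/-- A normal set of fixed point free elements of a 2-transitive group has order divisible by `n - 1`. -/
theorem sub_one_dvd_card [Finite G] [Finite Ω] [Nonempty Ω] (h2 : IsMultiplyPretransitive G Ω 2) (S : Set G)
    (hconj : ∀ g : G, ∀ x ∈ S, g * x * g⁻¹ ∈ S) (hfix : ∀ x ∈ S, ∀ a : Ω, x • a ≠ a) :
    (Nat.card Ω - 1) ∣ Nat.card S := by
  classical
  have : Fintype Ω := Fintype.ofFinite Ω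
  obtain ⟨a⟩ := ‹Nonempty Ω›
  let f : S → {b : Ω // b ≠ a} := fun x => ⟨x.1 • a, hfix x.1 x.2 a⟩
  have hcardb : Nat.card {b : Ω // b ≠ a} = Nat.card Ω - 1 := by
    rw [Nat.card_eq_fintype_card, Nat.card_eq_fintype_card, Fintype.card_subtype_compl,
      Fintype.card_subtype_eq]
  rw [← hcardb]
  have h1 : Nat.card S = ∑ b : {b : Ω // b ≠ a}, Nat.card {x : S // f x = b} := by
    rw [← Nat.card_sigma]
    exact Nat.card_congr (Equiv.sigmaFiberEquiv f).symm
  have h3 : ∀ b c : {b : Ω // b ≠ a}, Nat.card {x : S // f x = b} = Nat.card {x : S // f x = c} := by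
    have hle : ∀ b c : {b : Ω // b ≠ a}, Nat.card {x : S // f x = b} ≤ Nat.card {x : S // f x = c} := by
      intro b c
      obtain ⟨g, hga, hgb⟩ := exists_stab_map h2 b.2 c.2
      refine Nat.card_le_card_of_injective (fun x : {x : S // f x = b} =>
        (⟨⟨g * x.1.1 * g⁻¹, hconj g _ x.1.2⟩, ?_⟩ : {x : S // f x = c})) ?_
      · apply Subtype.ext
        have hx : x.1.1 • a = b.1 := congrArg Subtype.val x.2
        show (g * x.1.1 * g⁻¹) • a = c.1
        rw [mul_smul, mul_smul, inv_smul_eq_iff.2 hga.symm, hx, hgb]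
      · intro x y hxy
        have h := congrArg (fun z : {x : S // f x = c} => (z.1.1 : G)) hxy
        simp only [mul_left_inj, mul_right_inj] at h
        exact Subtype.ext (Subtype.ext h)
    intro b c
    exact le_antisymm (hle b c) (hle c b)
  rcases isEmpty_or_nonempty {b : Ω // b ≠ a} with hE | ⟨⟨b⟩⟩
  · rw [h1]
    simp only [_root_.ne_eq, _root_.Nat.card_eq_fintype_card, _root_.Fintype.card_eq_zero, _root_.Finset.univ_eq_empty, _root_.Finset.sum_empty, _root_.dvd_refl]
  · refine ⟨Nat.card {x : S // f x = b}, ?_⟩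
    rw [h1, Finset.sum_congr rfl (fun c _ => h3 c b), Finset.sum_const, Finset.card_univ,
      Nat.card_eq_fintype_card (α := {b : Ω // b ≠ a}), smul_eq_mul]

/-- If `B` is transitive and normalises `Y`, then `|Y ∩ G_a|` does not depend on `a`. -/
theorem card_inf_stab_const (B Y : Subgroup G) (hB : ∀ a b : Ω, ∃ g ∈ B, g • a = b)
    (hY : B ≤ Subgroup.normalizer (Y : Set G)) (a b : Ω) :
    Nat.card (Y ⊓ stabilizer G a : Subgroup G) = Nat.card (Y ⊓ stabilizer G b : Subgroup G) := by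
  obtain ⟨g, hg, rfl⟩ := hB a b
  have h1 : (Y ⊓ stabilizer G a).map (MulAut.conj g).toMonoidHom = Y ⊓ stabilizer G (g • a) := by
    ext x
    simp only [Subgroup.mem_map, Subgroup.mem_inf, mem_stabilizer_iff]
    constructor
    · rintro ⟨y, ⟨hy, hya⟩, rfl⟩
      refine ⟨(Subgroup.mem_normalizer_iff.1 (hY hg) y).1 hy, ?_⟩
      show (g * y * g⁻¹) • g • a = g • a
      rw [mul_smul, mul_smul, inv_smul_smul, hya]
    · rintro ⟨hx, hxa⟩
      refine ⟨g⁻¹ * x * g, ⟨?_, ?_⟩, ?_⟩
      · rw [Subgroup.mem_normalizer_iff.1 (hY hg)]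
        have : g * (g⁻¹ * x * g) * g⁻¹ = x := by group
        rw [this]; exact hx
      · rw [mul_smul, mul_smul, hxa, inv_smul_smul]
      · show g * (g⁻¹ * x * g) * g⁻¹ = x
        group
  rw [← h1]
  exact (Nat.card_congr (Subgroup.equivMapOfInjective _ _ (MulAut.conj g).injective).toEquiv)

/-- If `B` is transitive and normalises `Y`, then the common length of the `Y`-orbits divides `n`. -/
theorem relIndex_dvd [Finite G] [Finite Ω] (B Y : Subgroup G) (hB : ∀ a b : Ω, ∃ g ∈ B, g • a = b)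
    (hY : B ≤ Subgroup.normalizer (Y : Set G)) (a : Ω) :
    (stabilizer G a).relIndex Y ∣ Nat.card Ω := by
  classical
  have : Fintype Ω := Fintype.ofFinite Ω
  have hl : ∀ b : Ω, Nat.card (orbit Y b) = (stabilizer G a).relIndex Y := by
    intro b
    have h1 : Nat.card (orbit Y b) = (stabilizer G b).relIndex Y := by
      rw [Nat.card_coe_set_eq, ← MulAction.index_stabilizer]
      rfl
    rw [h1]
    have h2 := card_inf_stab_const B Y hB hY a b
    have h3 := card_inf_mul_relIndex Y (stabilizer G a)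
    have h4 := card_inf_mul_relIndex Y (stabilizer G b)
    rw [← h2] at h4
    exact Nat.eq_of_mul_eq_mul_left Nat.card_pos (h4.trans h3.symm)
  have h2 : Nat.card Ω = ∑ ω : Quotient (orbitRel Y Ω), Nat.card (orbitRel.Quotient.orbit ω) := by
    rw [Nat.card_congr (MulAction.selfEquivSigmaOrbits' Y Ω), Nat.card_sigma]
  rw [h2]
  apply Finset.dvd_sum
  intro ω _
  induction ω using Quotient.inductionOn with
  | h b =>
    rw [MulAction.orbitRel.Quotient.orbit_mk, hl b]

end trans

section line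

variable {G : Type*} [Group G]

/-- Counting in a group covered by subgroups with pairwise trivial intersection. -/
theorem card_partition [Finite G] (L : Finset (Subgroup G)) (E : Subgroup G) (hle : ∀ K ∈ L, K ≤ E)
    (hcov : ∀ w ∈ E, w ≠ 1 → ∃ K ∈ L, w ∈ K)
    (hdis : ∀ K ∈ L, ∀ K' ∈ L, K ≠ K' → ∀ w ∈ K, w ∈ K' → w = 1) (H : Subgroup G) (e : ℕ)
    (he : ∀ K ∈ L, Nat.card (K ⊓ H : Subgroup G) = e) :
    Nat.card (E ⊓ H : Subgroup G) = 1 + L.card * (e - 1) := by
  classical
  have : Fintype G := Fintype.ofFinite G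
  let f : Subgroup G → Finset G := fun K => Finset.univ.filter (fun w => w ∈ K ⊓ H ∧ w ≠ 1)
  have hf : ∀ K : Subgroup G, (f K).card = Nat.card (K ⊓ H : Subgroup G) - 1 := by
    intro K
    have h1 : Nat.card (K ⊓ H : Subgroup G) = (Finset.univ.filter (fun w => w ∈ K ⊓ H)).card := by
      rw [Nat.card_eq_fintype_card, Fintype.card_subtype]
    have h2 : f K = (Finset.univ.filter (fun w => w ∈ K ⊓ H)).erase 1 := by
      ext w
      simp only [f, Finset.mem_filter, Finset.mem_univ, true_and, Finset.mem_erase]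
      tauto
    rw [h2, Finset.card_erase_of_mem (by simp only [_root_.Subgroup.mem_inf, _root_.Finset.mem_filter, _root_.Finset.mem_univ, _root_.OneMemClass.one_mem, _root_.and_self]), h1]
  have hU : f E = L.biUnion f := by
    ext w
    simp only [f, Finset.mem_filter, Finset.mem_univ, true_and, Finset.mem_biUnion, Subgroup.mem_inf]
    constructor
    · rintro ⟨⟨hwE, hwH⟩, hw1⟩
      obtain ⟨K, hK, hwK⟩ := hcov w hwE hw1
      exact ⟨K, hK, ⟨hwK, hwH⟩, hw1⟩
    · rintro ⟨K, hK, ⟨hwK, hwH⟩, hw1⟩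
      exact ⟨⟨hle K hK hwK, hwH⟩, hw1⟩
  have h1 := hf E
  rw [hU, Finset.card_biUnion, Finset.sum_congr rfl (fun K hK => (hf K).trans (by rw [he K hK])),
    Finset.sum_const, smul_eq_mul] at h1
  · have h2 : 0 < Nat.card (E ⊓ H : Subgroup G) := Nat.card_pos
    omega
  · intro K hK K' hK' hne
    show Disjoint (f K) (f K')
    rw [Finset.disjoint_left]
    intro w hw hw'
    simp only [f, Finset.mem_filter, Finset.mem_univ, true_and, Subgroup.mem_inf] at hw hw'
    exact hw.2 (hdis K hK K' hK' hne w hw.1.1 hw'.1.1)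

/-- The arithmetic of the line lemma. -/
theorem line_arith {p f i j : ℕ} (hp : p.Prime) (hif : i ≤ f)
    (h : 1 + (p ^ f + 1) * (p ^ i - 1) = p ^ j) : i = 0 ∨ i = f := by
  by_contra hne
  push Not at hne
  have hi : 0 < i := Nat.pos_of_ne_zero hne.1
  have hif' : i < f := lt_of_le_of_ne hif hne.2
  have hp1 : 1 < p := hp.one_lt
  obtain ⟨k, hk⟩ : ∃ k, f = i + k := ⟨f - i, by omega⟩
  have hk0 : 0 < k := by omega
  -- the left hand side is `p ^ i * (p ^ (i + k) - p ^ k + 1)`
  have hpi : 1 ≤ p ^ i := Nat.one_le_pow _ _ hp.pos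
  obtain ⟨c, hc⟩ : ∃ c, p ^ i = c + 1 := ⟨p ^ i - 1, by omega⟩
  have hpk : p ∣ p ^ k := dvd_pow_self p hk0.ne'
  have h1 : p ^ j = p ^ i * (p ^ k * c + 1) := by
    rw [← h, hk, pow_add, hc]
    simp only [Nat.add_sub_cancel]
    ring
  have h2 : (p ^ k * c + 1) ∣ p ^ j := ⟨p ^ i, by rw [h1]; ring⟩
  obtain ⟨l, -, hl⟩ := (Nat.dvd_prime_pow hp).1 h2
  rcases Nat.eq_zero_or_pos l with h0 | h0
  · rw [h0, pow_zero] at hl
    have h3 : p ^ k * c = 0 := by omega
    have h4 : 0 < p ^ k := Nat.pow_pos hp.pos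
    have h5 : c = 0 := by
      rcases Nat.mul_eq_zero.1 h3 with h | h
      · omega
      · exact h
    have h6 : p ^ i = 1 := by omega
    have h7 : p ^ 1 ≤ p ^ i := Nat.pow_le_pow_right hp.pos hi
    rw [pow_one] at h7
    omega
  · have h3 : p ∣ p ^ l := dvd_pow_self p h0.ne'
    rw [← hl] at h3
    have h4 : p ∣ p ^ k * c := dvd_mul_of_dvd_left hpk c
    have h5 := (Nat.dvd_add_right h4).1 h3
    have := Nat.le_of_dvd one_pos h5
    omega

/-- **The line lemma.** `E`, of order `q²`, is covered by conjugates of the TI subgroup `X` of order `q`, contained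
in `E`. If all these conjugates meet `H` in groups of the same order `e`, then `e = 1` or `e = q`. -/
theorem line [Finite G] {p f : ℕ} (hp : p.Prime) (hf : 1 ≤ f) (X E H : Subgroup G) (hX : Nat.card X = p ^ f)
    (hE : Nat.card E = p ^ (2 * f))
    (hTI : ∀ g : G, ∀ z ∈ X, z ≠ 1 → g * z * g⁻¹ ∈ X → X.map (MulAut.conj g).toMonoidHom = X)
    (hcov : ∀ w ∈ E, w ≠ 1 → ∃ g : G, w ∈ X.map (MulAut.conj g).toMonoidHom ∧
      X.map (MulAut.conj g).toMonoidHom ≤ E) (e : ℕ)
    (he : ∀ g : G, X.map (MulAut.conj g).toMonoidHom ≤ E →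
      Nat.card (X.map (MulAut.conj g).toMonoidHom ⊓ H : Subgroup G) = e) :
    e = 1 ∨ e = p ^ f := by
  classical
  have : Fintype (Subgroup G) := Fintype.ofFinite _
  let L : Finset (Subgroup G) := Finset.univ.filter
    (fun K => ∃ g : G, K = X.map (MulAut.conj g).toMonoidHom ∧ K ≤ E)
  have hL : ∀ K, K ∈ L ↔ ∃ g : G, K = X.map (MulAut.conj g).toMonoidHom ∧ K ≤ E := by
    intro K; simp only [L, _root_.MulEquiv.toMonoidHom_eq_coe, _root_.exists_and_right, _root_.Finset.mem_filter, _root_.Finset.mem_univ, _root_.true_and]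
  have hdis : ∀ K ∈ L, ∀ K' ∈ L, K ≠ K' → ∀ w ∈ K, w ∈ K' → w = 1 := by
    intro K hK K' hK' hne w hw hw'
    by_contra hw1
    apply hne
    obtain ⟨g, hgK, -⟩ := (hL K).1 hK
    obtain ⟨k, hkK, -⟩ := (hL K').1 hK'
    rw [hgK] at hw ⊢
    rw [hkK] at hw' ⊢
    obtain ⟨z, hz, hzw⟩ := hw
    obtain ⟨z', hz', hzw'⟩ := hw'
    have h1 : (k⁻¹ * g) * z * (k⁻¹ * g)⁻¹ = z' := by
      have h2 : g * z * g⁻¹ = k * z' * k⁻¹ := hzw.trans hzw'.symm
      calc (k⁻¹ * g) * z * (k⁻¹ * g)⁻¹ = k⁻¹ * (g * z * g⁻¹) * k := by group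
        _ = z' := by rw [h2]; group
    have hz1 : z ≠ 1 := by
      rintro rfl
      apply hw1
      rw [← hzw, map_one]
    have h3 := hTI (k⁻¹ * g) z hz hz1 (by rw [h1]; exact hz')
    calc X.map (MulAut.conj g).toMonoidHom
        = (X.map (MulAut.conj (k⁻¹ * g)).toMonoidHom).map (MulAut.conj k).toMonoidHom := by
          rw [Subgroup.map_map]
          congr 1
          ext x
          simp [mul_assoc]
      _ = X.map (MulAut.conj k).toMonoidHom := by rw [h3]
  have hcov' : ∀ w ∈ E, w ≠ 1 → ∃ K ∈ L, w ∈ K := by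
    intro w hw hw1
    obtain ⟨g, h1, h2⟩ := hcov w hw hw1
    exact ⟨_, (hL _).2 ⟨g, rfl, h2⟩, h1⟩
  have hle : ∀ K ∈ L, K ≤ E := fun K hK => by
    obtain ⟨g, -, h⟩ := (hL K).1 hK
    exact h
  have hcK : ∀ K ∈ L, Nat.card K = p ^ f := by
    intro K hK
    obtain ⟨g, rfl, -⟩ := (hL K).1 hK
    rw [← hX]
    exact (Nat.card_congr (Subgroup.equivMapOfInjective _ _ (MulAut.conj g).injective).toEquiv).symm
  have hp1 : 1 < p := hp.one_lt
  have hq : 1 < p ^ f := Nat.one_lt_pow (by omega) hp1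
  -- the number of lines
  have h1 := card_partition L E hle hcov' hdis ⊤ (p ^ f) (by
    intro K hK
    rw [inf_top_eq]
    exact hcK K hK)
  rw [inf_top_eq, hE] at h1
  have hLc : L.card = p ^ f + 1 := by
    have h2 : p ^ (2 * f) = p ^ f * p ^ f := by rw [two_mul, pow_add]
    obtain ⟨c, hc⟩ : ∃ c, p ^ f = c + 2 := ⟨p ^ f - 2, by omega⟩
    rw [h2, hc] at h1
    have h3 : (c + 2) * (c + 2) = (c + 3) * (c + 1) + 1 := by ring
    rw [h3] at h1
    have h4 : c + 2 - 1 = c + 1 := by omega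
    rw [h4] at h1
    have h5 : (c + 3) * (c + 1) = L.card * (c + 1) := by omega
    have h6 := Nat.eq_of_mul_eq_mul_right (by omega) h5
    omega
  have h2 := card_partition L E hle hcov' hdis H e (by
    intro K hK
    obtain ⟨g, rfl, h⟩ := (hL K).1 hK
    exact he g h)
  -- `e` is a power of `p`
  obtain ⟨K, hK⟩ : L.Nonempty := by
    rw [← Finset.card_pos, hLc]; omega
  have heK : Nat.card (K ⊓ H : Subgroup G) = e := by
    obtain ⟨g, rfl, h⟩ := (hL K).1 hK
    exact he g h
  have h3 : e ∣ p ^ f := by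
    rw [← heK, ← hcK K hK]
    exact Subgroup.card_dvd_of_le inf_le_left
  obtain ⟨i, hi, hei⟩ := (Nat.dvd_prime_pow hp).1 h3
  have h4 : Nat.card (E ⊓ H : Subgroup G) ∣ p ^ (2 * f) := by
    rw [← hE]
    exact Subgroup.card_dvd_of_le inf_le_left
  obtain ⟨j, -, hj⟩ := (Nat.dvd_prime_pow hp).1 h4
  rw [h2, hLc, hei] at hj
  rcases line_arith hp hi hj with h | h
  · left; rw [hei, h, pow_zero]
  · right; rw [hei, h]

end line

section pairing

/-- The number of linear characters trivial on a subgroup `B` is at most the index of `B`. -/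
theorem card_hom_le {N : Type*} [Group N] [Finite N] (B : Subgroup N) (Γ : Set (N →* ℂˣ))
    (hΓ : ∀ γ ∈ Γ, ∀ b ∈ B, γ b = 1) : Γ.Finite ∧ Nat.card Γ ≤ B.index := by
  classical
  have : Fintype (N ⧸ B) := Fintype.ofFinite _
  -- the characters as functions on the cosets
  let F : Γ → (N ⧸ B → ℂ) := fun γ => Quotient.lift (fun n : N => ((γ.1 n : ℂˣ) : ℂ)) (by
    intro a b hab
    have h1 : a⁻¹ * b ∈ B := QuotientGroup.leftRel_apply.1 hab
    have h2 := hΓ γ.1 γ.2 _ h1
    rw [map_mul, map_inv, inv_mul_eq_one] at h2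
    show ((γ.1 a : ℂˣ) : ℂ) = ((γ.1 b : ℂˣ) : ℂ)
    rw [h2])
  have hlin : LinearIndependent ℂ F := by
    have h1 : LinearIndependent ℂ (fun γ : Γ => (((Units.coeHom ℂ).comp γ.1 : N →* ℂ) : N → ℂ)) := by
      have h2 := linearIndependent_monoidHom N ℂ
      refine h2.comp (fun γ : Γ => (Units.coeHom ℂ).comp γ.1) ?_
      intro γ γ' h
      apply Subtype.ext
      ext n
      have := congrArg (fun f : N →* ℂ => f n) h
      simpa using this
    let π : (N ⧸ B → ℂ) →ₗ[ℂ] (N → ℂ) := LinearMap.funLeft ℂ ℂ (fun n : N => (n : N ⧸ B))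
    apply LinearIndependent.of_comp π
    exact h1
  have hfin : Finite Γ := by
    have := hlin.finite
    exact this
  have : Fintype Γ := Fintype.ofFinite _
  refine ⟨Set.toFinite Γ, ?_⟩
  have h1 := hlin.fintype_card_le_finrank
  rw [Module.finrank_fintype_fun_eq_card] at h1
  rw [Nat.card_eq_fintype_card, Subgroup.index, Nat.card_eq_fintype_card]
  exact h1

variable {G : Type*} [Group G] [Finite G]

/-- **Pairing lemma.** The commutators `[a, n]`, `a ∈ A`, `n ∈ N`, lie in `X`, which centralises `A` and `N`; `l` is a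
linear character of `X`; `B ≤ N` satisfies `l [a, b] = 1` for `a ∈ A`, `b ∈ B`; and `A₀` contains the `a ∈ A` with
`l [a, N] = 1`. Then `|A| |B| ≤ |A ∩ A₀| |N|`. -/
theorem pairing (A N X B A₀ : Subgroup G) (hAN : ∀ a ∈ A, ∀ n ∈ N, ⁅a, n⁆ ∈ X)
    (hXA : ∀ x ∈ X, ∀ a ∈ A, x * a = a * x) (hXN : ∀ x ∈ X, ∀ n ∈ N, x * n = n * x)
    (l : X →* ℂˣ) (hBN : B ≤ N) (hB : ∀ (a : G) (ha : a ∈ A) (b : G) (hb : b ∈ B),
      l ⟨⁅a, b⁆, hAN a ha b (hBN hb)⟩ = 1)
    (hA₀ : ∀ (a : G) (ha : a ∈ A), (∀ (n : G) (hn : n ∈ N), l ⟨⁅a, n⁆, hAN a ha n hn⟩ = 1) → a ∈ A₀) :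
    Nat.card A * Nat.card B ≤ Nat.card (A ⊓ A₀ : Subgroup G) * Nat.card N := by
  classical
  -- the characters `γ a : N → ℂˣ`
  let γ : A → (N →* ℂˣ) := fun a =>
    { toFun := fun n => l ⟨⁅(a : G), (n : G)⁆, hAN a a.2 n n.2⟩
      map_one' := by
        have : (⟨⁅(a : G), ((1 : N) : G)⁆, hAN a a.2 _ (1 : N).2⟩ : X) = 1 := by
          apply Subtype.ext
          simp only [_root_.OneMemClass.coe_one, _root_.commutatorElement_one_right]
        rw [this, map_one]
      map_mul' := by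
        intro m n
        rw [← map_mul]
        congr 1
        apply Subtype.ext
        show ⁅(a : G), (m : G) * (n : G)⁆ = ⁅(a : G), (m : G)⁆ * ⁅(a : G), (n : G)⁆
        have h1 := hXN _ (hAN a a.2 n n.2) m m.2
        calc ⁅(a : G), (m : G) * (n : G)⁆ = ⁅(a : G), (m : G)⁆ * (m * ⁅(a : G), (n : G)⁆ * (m : G)⁻¹) := by
              simp only [commutatorElement_def]; group
          _ = ⁅(a : G), (m : G)⁆ * ⁅(a : G), (n : G)⁆ := by
              rw [← h1]; group }
  have hγ : ∀ (a : A) (n : N), γ a n = l ⟨⁅(a : G), (n : G)⁆, hAN a a.2 n n.2⟩ := fun a n => rfl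
  let Γ : A →* (N →* ℂˣ) :=
    { toFun := γ
      map_one' := by
        ext n
        rw [hγ]
        have : (⟨⁅((1 : A) : G), (n : G)⁆, hAN _ (1 : A).2 n n.2⟩ : X) = 1 := by
          apply Subtype.ext
          simp only [_root_.OneMemClass.coe_one, _root_.commutatorElement_one_left]
        rw [this, map_one]
        rfl
      map_mul' := by
        intro a b
        ext n
        rw [MonoidHom.mul_apply, hγ, hγ, hγ, ← map_mul]
        congr 2
        apply Subtype.ext
        show ⁅(a : G) * (b : G), (n : G)⁆ = ⁅(a : G), (n : G)⁆ * ⁅(b : G), (n : G)⁆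
        have h1 := hXA _ (hAN b b.2 n n.2) a a.2
        have h2 : ⁅(a : G), (n : G)⁆ * ⁅(b : G), (n : G)⁆ = ⁅(b : G), (n : G)⁆ * ⁅(a : G), (n : G)⁆ := by
          have h3 := hXA _ (hAN b b.2 n n.2) a a.2
          have h4 := hXN _ (hAN b b.2 n n.2) n n.2
          generalize ⁅(b : G), (n : G)⁆ = c at h3 h4
          have h5 : Commute c (a : G) := h3
          have h6 : Commute c (n : G) := h4
          have h7 : Commute c ⁅(a : G), (n : G)⁆ := by
            rw [commutatorElement_def]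
            exact ((h5.mul_right h6).mul_right h5.inv_right).mul_right h6.inv_right
          exact h7.symm
        rw [h2]
        calc ⁅(a : G) * (b : G), (n : G)⁆ = ((a : G) * ⁅(b : G), (n : G)⁆ * (a : G)⁻¹) * ⁅(a : G), (n : G)⁆ := by
              simp only [commutatorElement_def]; group
          _ = ⁅(b : G), (n : G)⁆ * ⁅(a : G), (n : G)⁆ := by
              rw [← h1]; group }
  have hΓ : ∀ (a : A) (n : N), Γ a n = l ⟨⁅(a : G), (n : G)⁆, hAN a a.2 n n.2⟩ := fun a n => rfl
  -- the image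
  have h1 := card_hom_le (B.subgroupOf N) (Set.range Γ) (by
    rintro _ ⟨a, rfl⟩ b hb
    rw [hΓ]
    exact hB a a.2 b hb)
  -- the kernel
  have h2 : Nat.card Γ.ker ≤ Nat.card (A ⊓ A₀ : Subgroup G) := by
    refine Nat.card_le_card_of_injective (fun x : Γ.ker => (⟨((x : A) : G), (x : A).2, ?_⟩ :
      (A ⊓ A₀ : Subgroup G))) ?_
    · apply hA₀ _ (x : A).2
      intro n hn
      have h3 := x.2
      rw [MonoidHom.mem_ker] at h3
      have h4 := congrArg (fun f : N →* ℂˣ => f ⟨n, hn⟩) h3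
      exact h4
    · intro x y hxy
      have h3 := congrArg (fun w : (A ⊓ A₀ : Subgroup G) => (w : G)) hxy
      exact Subtype.ext (Subtype.ext h3)
  have h3 := Subgroup.index_mul_card Γ.ker
  rw [Subgroup.index_ker] at h3
  have h4 : Nat.card Γ.range = Nat.card (Set.range Γ) := by
    rw [← MonoidHom.coe_range]; rfl
  have h5 := Subgroup.index_mul_card (B.subgroupOf N)
  have h6 : Nat.card (B.subgroupOf N) = Nat.card B :=
    Nat.card_congr (Subgroup.subgroupOfEquivOfLe hBN).toEquiv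
  rw [h6] at h5
  calc Nat.card A * Nat.card B = (Nat.card Γ.range * Nat.card Γ.ker) * Nat.card B := by rw [h3]
    _ ≤ ((B.subgroupOf N).index * Nat.card (A ⊓ A₀ : Subgroup G)) * Nat.card B := by
        apply Nat.mul_le_mul_right
        rw [h4]
        exact Nat.mul_le_mul h1.2 h2
    _ = Nat.card (A ⊓ A₀ : Subgroup G) * Nat.card N := by rw [← h5]; ring

/-- a non-trivial linear character of a non-trivial finite abelian group. -/
theorem exists_char (X : Subgroup G) (hX : ∀ x ∈ X, ∀ y ∈ X, x * y = y * x) (z : G) (hz : z ∈ X) (hz1 : z ≠ 1) :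
    ∃ l : X →* ℂˣ, l ⟨z, hz⟩ ≠ 1 := by
  let _ : CommGroup X := { (inferInstance : Group X) with mul_comm := fun a b => Subtype.ext (hX a a.2 b b.2) }
  have h1 : (⟨z, hz⟩ : X) ≠ 1 := fun h => hz1 (congrArg Subtype.val h)
  obtain ⟨φ, hφ⟩ := CommGroup.exists_apply_ne_one_of_hasEnoughRootsOfUnity X ℂ h1
  exact ⟨φ, hφ⟩

end pairing

end Cfsg.Agent.H392.LongRoot
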