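import Cfsg.Agent.H392.HalfTrans
import Cfsg.Agent.SporadicA.M24Trans
import Cfsg.Agent.MTwelveType.SylowModel
import Cfsg.Agent.HNType.Simple
import Cfsg.Agent.SporadicA.MathieuRecog
import Cfsg.Statements.S3387
import Cfsg.Agent.Prune
set_option linter.all false
prune_inst 0x7f00000000000000000000000000000000000000000000000000000000000000000000000000000000000000000000000000000000000000000000000000000000000000000000000000000000000000003fffffffffffffffffffffffffffbeffbdffffffff
open scoped Cfsg.Agent.FastGrp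

/-!
# `(k+1/2)`-transitive groups, `k ≥ 4`, from the list of `4`-transitive groups
-/

set_option autoImplicit false

open MulAction

namespace Cfsg.Agent.H392.KHalf

open Cfsg.Agent.H392.MultTrans Cfsg.Agent.H392.HalfTrans

variable {G Ω : Type*} [Group G] [MulAction G Ω]

/-- Conjugate stabilisers have the same orbit lengths. -/
theorem orbit_card_conj [Finite Ω] {k : ℕ} (s t : Fin k ↪ Ω) (g : G) (hg : ∀ i, g • s i = t i) (b : Ω) :
    Nat.card (orbit (stabilizer G s) b) = Nat.card (orbit (stabilizer G t) (g • b)) := by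
  have h1 : (fun x : Ω => g • x) '' (orbit (stabilizer G s) b) = orbit (stabilizer G t) (g • b) := by
    ext x
    constructor
    · rintro ⟨_, ⟨u, rfl⟩, rfl⟩
      refine ⟨⟨g * u * g⁻¹, ?_⟩, ?_⟩
      · rw [mem_stab_emb]
        intro i
        rw [← hg, mul_smul, mul_smul, inv_smul_smul, (mem_stab_emb s _).1 u.2]
      · show (g * u * g⁻¹) • (g • b) = g • ((u : G) • b)
        rw [mul_smul, mul_smul, inv_smul_smul]
    · rintro ⟨u, rfl⟩
      refine ⟨(g⁻¹ * u * g) • b, ⟨⟨g⁻¹ * u * g, ?_⟩, rfl⟩, ?_⟩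
      · rw [mem_stab_emb]
        intro i
        rw [mul_smul, mul_smul, hg, (mem_stab_emb t _).1 u.2, inv_smul_eq_iff, hg]
      · show g • (g⁻¹ * u * g) • b = (u : G) • (g • b)
        rw [mul_smul, mul_smul, smul_inv_smul]
  rw [← h1]
  exact (Nat.card_image_of_injective (fun x y h => smul_left_cancel g h) _).symm

theorem df11 : ∀ k < 11, 4 ≤ k → Nat.descFactorial 11 k ∣ 7920 → k = 4 := by decide
theorem df12 : ∀ k < 12, 4 ≤ k → Nat.descFactorial 12 k ∣ 95040 → k = 4 ∨ k = 5 := by decide
theorem df23 : ∀ k < 23, 4 ≤ k → Nat.descFactorial 23 k ∣ 10200960 → k = 4 := by decide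
theorem df24 : ∀ k < 24, 4 ≤ k → Nat.descFactorial 24 k ∣ 244823040 → k = 4 ∨ k = 5 := by decide

theorem main [Finite G] [FaithfulSMul G Ω] [Fintype Ω] [DecidableEq Ω]
    (k : ℕ) (hk : 4 ≤ k) (hn : k + 1 ≤ Nat.card Ω) (htrans : IsMultiplyPretransitive G Ω k)
    (hhalf : ∀ s : Fin k ↪ Ω, ∀ b c : Ω, b ∉ Set.range s → c ∉ Set.range s →
      Nat.card (orbit (stabilizer G s) b) = Nat.card (orbit (stabilizer G s) c))
    (hlist : (toPermHom G Ω).range = ⊤ ∨ (toPermHom G Ω).range = alternatingGroup Ω ∨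
      (Fintype.card Ω = 11 ∧ Cfsg.Spor.IsoM11 G) ∨ (Fintype.card Ω = 12 ∧ Cfsg.Spor.IsoM12 G) ∨
      (Fintype.card Ω = 23 ∧ Cfsg.Spor.IsoM23 G) ∨ (Fintype.card Ω = 24 ∧ Cfsg.Spor.IsoM24 G)) :
    IsMultiplyPretransitive G Ω (k + 1) ∨ ∀ s : Fin k ↪ Ω, stabilizer G s = ⊥ := by
  have hnc : Nat.card Ω = Fintype.card Ω := Nat.card_eq_fintype_card
  obtain ⟨s₀⟩ : Nonempty (Fin k ↪ Ω) := by
    apply Function.Embedding.nonempty_of_card_le
    rw [Fintype.card_fin]; omega
  -- a common orbit length
  obtain ⟨b₀, hb₀⟩ : ∃ b₀, b₀ ∉ Set.range s₀ := by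
    by_contra hne
    push Not at hne
    have h1 := card_compl_range s₀
    have h2 : ((Set.range s₀)ᶜ : Set Ω) = ∅ := by
      ext x
      simp only [Set.mem_compl_iff, Set.mem_empty_iff_false, iff_false, not_not]
      exact hne x
    rw [h2] at h1
    simp at h1
    omega
  set r := Nat.card (orbit (stabilizer G s₀) b₀) with hr
  have hrs : ∀ (s : Fin k ↪ Ω) (b : Ω), b ∉ Set.range s →
      Nat.card (orbit (stabilizer G s) b) = r := by
    intro s b hb
    obtain ⟨g, hg⟩ := exists_map htrans s s₀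
    rw [orbit_card_conj s s₀ g hg]
    apply hhalf
    · rintro ⟨i, hi⟩
      rw [← hg] at hi
      exact hb ⟨i, smul_left_cancel g hi⟩
    · exact hb₀
  have hrn : r ∣ Nat.card Ω - k := orbit_dvd s₀ (hrs s₀)
  have hrG : r ∣ Nat.card (stabilizer G s₀) := by
    have := MulAction.index_stabilizer (stabilizer G s₀) b₀
    rw [← Nat.card_coe_set_eq] at this
    rw [hr, ← this]
    exact Subgroup.index_dvd_card _
  have hone : r = 1 → ∀ s : Fin k ↪ Ω, stabilizer G s = ⊥ := by
    intro h s
    exact stab_eq_bot_of_card_orbit_one s (by rw [← h]; exact hrs s)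
  have hfull : r = Nat.card Ω - k → IsMultiplyPretransitive G Ω (k + 1) := by
    intro h
    exact succ_of_orbit_full htrans s₀ hb₀ h
  have hord := card_eq_descFactorial htrans s₀
  have hcone : Nat.card (stabilizer G s₀) = 1 → ∀ s : Fin k ↪ Ω, stabilizer G s = ⊥ := by
    intro h s
    rw [Subgroup.card_eq_one] at h
    exact stab_bot_all htrans s₀ h s
  rcases hlist with h | h | ⟨h, ⟨e⟩⟩ | ⟨h, ⟨e⟩⟩ | ⟨h, ⟨e⟩⟩ | ⟨h, ⟨e⟩⟩
  · left
    exact of_range_top h
  · by_cases hk2 : k + 1 + 2 ≤ Nat.card Ω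
    · left
      exact of_range_alt hk2 h
    · right
      intro s
      exact stab_bot_of_alt h (by omega) s
  · right
    have hG : Nat.card G = 7920 := by rw [Nat.card_congr e.toEquiv, HNType.Alt.card_M11]
    rw [hG, hnc, h] at hord
    rw [hnc, h] at hn
    have hk4 : k = 4 := df11 k (by omega) hk ⟨_, hord⟩
    subst hk4
    apply hcone
    have h1 : Nat.descFactorial 11 4 = 7920 := by decide
    rw [h1] at hord
    omega
  · have hG : Nat.card G = 95040 := by rw [Nat.card_congr e.toEquiv, MTwelveType.SylowModel.card_M12]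
    rw [hG, hnc, h] at hord
    rw [hnc, h] at hn
    rcases df12 k (by omega) hk ⟨_, hord⟩ with h1 | h1
    · subst h1
      left
      exact deg12 h hG htrans hrs
    · subst h1
      right
      apply hcone
      have h1 : Nat.descFactorial 12 5 = 95040 := by decide
      rw [h1] at hord
      omega
  · right
    have hG : Nat.card G = 10200960 := by
      rw [Nat.card_congr e.toEquiv, SporadicA.MathieuRecog.card_M23]
    rw [hG, hnc, h] at hord
    rw [hnc, h] at hn hrn
    have hk4 : k = 4 := df23 k (by omega) hk ⟨_, hord⟩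
    subst hk4
    apply hone
    have h1 : Nat.descFactorial 23 4 = 212520 := by decide
    rw [h1] at hord
    have h2 : Nat.card (stabilizer G s₀) = 48 := by omega
    rw [h2] at hrG
    have h3 : r ∣ Nat.gcd 19 48 := Nat.dvd_gcd hrn hrG
    have h4 : Nat.gcd 19 48 = 1 := by decide
    rw [h4] at h3
    exact Nat.dvd_one.1 h3
  · have hG : Nat.card G = 244823040 := by
      rw [Nat.card_congr e.toEquiv, SporadicA.M24Trans.card_M24]
    rw [hG, hnc, h] at hord
    rw [hnc, h] at hn hrn
    rcases df24 k (by omega) hk ⟨_, hord⟩ with h1 | h1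
    · subst h1
      left
      exact deg24 h hG htrans s₀ (hrs s₀)
    · subst h1
      right
      apply hone
      have h1 : Nat.descFactorial 24 5 = 5100480 := by decide
      rw [h1] at hord
      have h2 : Nat.card (stabilizer G s₀) = 48 := by omega
      rw [h2] at hrG
      have h3 : r ∣ Nat.gcd 19 48 := Nat.dvd_gcd hrn hrG
      have h4 : Nat.gcd 19 48 = 1 := by decide
      rw [h4] at h3
      exact Nat.dvd_one.1 h3

end Cfsg.Agent.H392.KHalf
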